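import Cfsg.Agent.Lib.Helper70.SpRow.QP7core
import Cfsg.Agent.Lib.Helper1.SpRow.QP3

set_option autoImplicit false

namespace Cfsg.Agent.Lib.Helper70.SpRow

open Cfsg Cfsg.Geo Matrix Cfsg.Agent.Lib.Helper94.SpRow
open scoped MatrixGroups

variable {F : Type*} [Field F]

theorem top_of_LL_all (h2 : (2 : F) = 0) (h3 : ∃ c : F, c + c ^ 2 ≠ 0) (F₀ : Subfield F)
    (G : Subgroup (GL (Fin 2 ⊕ Fin 2) F))
    (hHG : subfieldSubgroup F₀ (1 : GL (Fin 2 ⊕ Fin 2) F) ⊓ spGL 2 F ≤ G) (hGS : G ≤ spGL 2 F)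
    (hL : ∀ x, LL G x) : spGL 2 F ≤ G :=
  top_of_LL_all_core h2 h3 F₀ G hHG hGS hL
    fun _ _ ha hc => Cfsg.Agent.Lib.Helper1.SpRow.LL_comm h2 F₀ G hHG ha hc

end Cfsg.Agent.Lib.Helper70.SpRow
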